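import Groth.Agent.VBCurve.K366.MukA1
import Groth.Agent.VBCurve.K876.MukM0
import Groth.Agent.VBCurve.K105.MukM1
import Groth.Agent.VBCurve.K105.MukM2
import Groth.Agent.VBCurve.K838.MukM3
import Groth.Agent.VBCurve.K70.MukH0
import Groth.Agent.VBCurve.K202.MukH12
import Groth.Agent.VBCurve.K202.MukF1
import Groth.Agent.VBCurve.K678.MukF3A

/-!
# MUK-F3: the universal bundle

`K704.Muk.exists_univ_bundle`.
-/

set_option autoImplicit false
set_option backward.isDefEq.respectTransparency false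
universe u

open CategoryTheory CategoryTheory.Limits AlgebraicGeometry Opposite TopologicalSpace
open Groth.Agent.Fdesc.LocGen Groth.Agent.Picfga.P1Def K704.Muk

namespace Groth.Agent.VBCurve.K678.MukF3

section Alg
variable {k : Type*} [Field k] {I : Type*} {d m : ℕ} {w : Fin d → I → k}
variable {A A' : Type*} [CommRing A] [Algebra k A] [CommRing A'] [Algebra k A'] (φ : A →+* A')
  (hφ : ∀ c : k, φ (algebraMap k A c) = algebraMap k A' c)

include hφ in
lemma ev_map (T : Sys d m A) (x : I) (a b : J m) :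
    ev w (fun l => (T l).map φ) x a b = φ (ev w T x a b) := by
  simp only [ev, Matrix.sum_apply, Matrix.smul_apply, Matrix.map_apply, smul_eq_mul, map_sum, map_mul, hφ]

include hφ in
lemma isPlu_ev_map {T : Sys d m A} {x : I} (h : IsPlu (ev w T x)) : IsPlu (ev w (fun l => (T l).map φ) x) := by
  refine ⟨⟨fun a => ?_, fun a b => ?_⟩, fun a b c e => ?_⟩
  · rw [ev_map φ hφ, h.diag, map_zero]
  · rw [ev_map φ hφ, ev_map φ hφ, h.skew, map_neg]
  · simp only [ev_map φ hφ, ← map_mul, ← map_sub, ← map_add, h.plu, map_zero]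

include hφ in
lemma cvS_map (T : Sys d m A) (S : Fin m → I) (a : J m) :
    cvS w (fun l => (T l).map φ) S a = φ (cvS w T S a) := by
  unfold cvS
  rw [← cv_map]
  have : (fun i => ev w (fun l => (T l).map φ) (S i)) = fun i => (ev w T (S i)).map φ := by
    funext i
    ext a b
    rw [ev_map φ hφ]
    rfl
  rw [this]

include hφ in
lemma tau_map (T : Sys d m A) (S S' : Fin m → I) (l : Fin d) :
    tau w (fun l => (T l).map φ) S S' l = φ (tau w T S S' l) := by
  simp only [tau, dotProduct, Matrix.mulVec, cvS_map φ hφ, Matrix.map_apply, map_sum, map_mul]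

variable {C : Finset (Fin m → I)}

lemma rs_map (t : C × C × Fin d → A) (F : J m → C) :
    rs (fun i => φ (t i)) F = fun l => (rs t F l).map φ := rfl

include hφ in
lemma hF_map (t : C × C × Fin d → A) (F : J m → C) : hF w (fun i => φ (t i)) F = φ (hF w t F) := by
  unfold hF dF
  rw [RingHom.map_det]
  congr 1
  ext a j
  simp only [rs_map, mF, Matrix.of_apply, RingHom.mapMatrix_apply, Matrix.map_apply]
  exact cvS_map φ hφ _ _ _

include hφ in
lemma eqF_map {t : C × C × Fin d → A} {F : J m → C} (h : EqF w t F) : EqF w (fun i => φ (t i)) F := by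
  refine ⟨⟨fun l => ⟨fun a => ?_, fun a b => ?_⟩, fun x => ?_⟩, ?_, fun S S' l => ?_⟩
  · change φ (rs t F l a a) = 0
    rw [(h.sys.alt l).diag, map_zero]
  · change φ (rs t F l a b) = - φ (rs t F l b a)
    rw [(h.sys.alt l).skew, map_neg]
  · exact isPlu_ev_map φ hφ (h.sys.plu x)
  · obtain ⟨β, hβ⟩ := h.scal
    refine ⟨φ β, fun a j => ?_⟩
    rw [rs_map, cvS_map φ hφ, hβ]
    split_ifs <;> simp
  · rw [rs_map, cvS_map φ hφ, tau_map φ hφ, ← h.fac, map_mul, map_pow]

lemma isUnit_scal {t : C × C × Fin d → A} {F : J m → C} (hu : IsUnit (hF w t F)) {β : A}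
    (hβ : ∀ (a j : J m), cvS w (rs t F) (F j) a = if a = j then β else 0) : IsUnit β := by
  have h1 : mF w (rs t F) (fun j => (F j : Fin m → I)) = β • (1 : Matrix (J m) (J m) A) := by
    ext a j
    rw [Matrix.smul_apply, Matrix.one_apply, smul_eq_mul, mul_ite, mul_one, mul_zero]
    exact hβ a j
  unfold hF dF at hu
  rw [h1, Matrix.det_smul, Matrix.det_one, mul_one] at hu
  exact (isUnit_pow_iff Fintype.card_ne_zero).mp hu

lemma sum_eq {t : C × C × Fin d → A} {F : J m → C} (h : EqF w t F) {β γ : A} (hγ : β * γ = 1)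
    (hβ : ∀ (a j : J m), cvS w (rs t F) (F j) a = if a = j then β else 0) (S S' : C) (l : Fin d) :
    ∑ a, ∑ b, (γ * cvS w (rs t F) S a) * (γ * cvS w (rs t F) S' b) * rs t F l a b = t (S, S', l) := by
  have h1 := h.fac S S' l
  rw [hβ none none, if_pos rfl] at h1
  have h2 : ∑ a, ∑ b, (γ * cvS w (rs t F) S a) * (γ * cvS w (rs t F) S' b) * rs t F l a b =
      γ ^ 2 * tau w (rs t F) S S' l := by
    simp only [tau, dotProduct, Matrix.mulVec, Finset.mul_sum]
    refine Finset.sum_congr rfl fun a _ => Finset.sum_congr rfl fun b _ => ?_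
    ring
  rw [h2, ← h1, ← mul_assoc, ← mul_pow, mul_comm γ, hγ, one_pow, one_mul]

end Alg

lemma sum_aux {R Mo J' : Type*} [CommRing R] [AddCommGroup Mo] [Module R Mo] [Fintype J'] {d : ℕ} (p q : J' → R)
    (τ : Fin d → J' → J' → R) (ω : Fin d → Mo) :
    ∑ a, ∑ b, (p a * q b) • ∑ l, τ l a b • ω l = ∑ l, (∑ a, ∑ b, p a * q b * τ l a b) • ω l := by
  simp only [Finset.smul_sum, Finset.sum_smul, smul_smul]
  rw [Finset.sum_congr rfl fun a _ => Finset.sum_comm, Finset.sum_comm]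

section Main
variable {k : Type u} [Field k] [IsAlgClosed k] [CharZero k] {X : Scheme.{u}} {f : X ⟶ Spec (CommRingCat.of k)}
  [IsIntegral X] [IsProper f] [Smooth f]

theorem exists_local_model (hdim : topologicalKrullDim X = 1) {L : X.Modules} (hL : PicF.IsInvertible L)
    (B : BD f L) [Infinite B.I] (hB : Gen B.w) {m : ℕ} (hm : 1 ≤ m)
    (hg : letI : X.Over (Spec (CommRingCat.of k)) := ⟨f⟩; Curv2.genus k X ≤ m)
    (hdeg : letI : X.Over (Spec (CommRingCat.of k)) := ⟨f⟩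
      Curv2.deg k X L 1 = 2 * (m : ℤ) - 1 + 2 * (Curv2.genus k X : ℤ))
    {C : Finset (Fin m → B.I)} (T : Over (Spec (CommRingCat.of k))) [IsAffine T.left]
    (t : C × C × Fin B.d → Γ(T.left, ⊤)) (F : J m → C) (h : EqF B.w t F) (hu : IsUnit (hF B.w t F)) :
    ∃ (E : (PicF.XT f T).Modules) (v : J m → Γ(E, ⊤)) (q : C → Γ(E, ⊤)) (β : Wdg E (LT f L T)),
      IsModel v (B.sec T (rs t F)) β ∧ IsModel q (B.sec T (fun l S S' => t (S, S', l))) β := by
  obtain ⟨⟨E, v, β, hv⟩, -⟩ := exists_bundle hdim hL B hB hm hg hdeg T (rs t F) h.sys (fun j => F j) hu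
  obtain ⟨b, hb⟩ := h.scal
  obtain ⟨c, hc⟩ := (isUnit_scal hu hb).exists_right_inv
  have h1 := hv.comb (C' := C) (fun a S => fn f T (c * cvS B.w (rs t F) S a)) F (by
    intro a j
    rw [hb]
    split_ifs
    · rw [mul_comm, hc]; exact map_one _
    · rw [mul_zero]; exact map_zero _)
  refine ⟨E, v, fun S => ∑ a, fn f T (c * cvS B.w (rs t F) S a) • v a, β, hv, ?_⟩
  have h2 : (fun S S' : C => ∑ a, ∑ b, (fn f T (c * cvS B.w (rs t F) S a) *
      fn f T (c * cvS B.w (rs t F) S' b)) • B.sec T (rs t F) a b) =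
      B.sec T (fun l S S' => t (S, S', l)) := by
    funext S S'
    have h3 : ∀ l : Fin B.d, fn f T (t (S, S', l)) =
        ∑ a, ∑ b, fn f T (c * cvS B.w (rs t F) S a) * fn f T (c * cvS B.w (rs t F) S' b) * fn f T (rs t F l a b) := by
      intro l
      rw [← sum_eq h hc hb S S' l]
      simp only [fn, map_sum, map_mul]
    unfold BD.sec
    rw [sum_aux]
    exact Finset.sum_congr rfl fun l _ => congrArg (· • B.ωT T l) (h3 l).symm
  rw [← h2]
  exact h1

/-- chart-wise: the sections `s (S, S')` on `X_T` -/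
theorem exists_model_pb (hdim : topologicalKrullDim X = 1) {L : X.Modules} (hL : PicF.IsInvertible L)
    (B : BD f L) [Infinite B.I] (hB : Gen B.w) {m : ℕ} (hm : 1 ≤ m)
    (hg : letI : X.Over (Spec (CommRingCat.of k)) := ⟨f⟩; Curv2.genus k X ≤ m)
    (hdeg : letI : X.Over (Spec (CommRingCat.of k)) := ⟨f⟩
      Curv2.deg k X L 1 = 2 * (m : ℤ) - 1 + 2 * (Curv2.genus k X : ℤ))
    {C : Finset (Fin m → B.I)}
    {M : Over (Spec (CommRingCat.of k))} {N : M.left.Modules} (hN : PicF.IsInvertible N)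
    (x : C × C × Fin B.d → Γ(N, ⊤))
    (T : Over (Spec (CommRingCat.of k))) [IsAffine T.left] (a : T ⟶ M)
    (t : C × C × Fin B.d → Γ(T.left, ⊤)) (F : J m → C) (hc : Coord x a t) (h : EqF B.w t F)
    (hu : IsUnit (hF B.w t F)) :
    PluS (fun S S' => pullTop (PicF.XTmap f a) (secN B x S S')) ∧
    GenS (fun S S' => pullTop (PicF.XTmap f a) (secN B x S S')) := by
  obtain ⟨Φ, hΦ⟩ := exists_iso_coord hL B hN x a t hc
  obtain ⟨E, v, q, β, -, hq⟩ := exists_local_model hdim hL B hB hm hg hdeg T t F h hu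
  obtain ⟨β', hq'⟩ := hq.of_iso (Iso.refl E) Φ.symm
  have h1 : (fun S S' => Φ.symm.hom.app ⊤ (B.sec T (fun l S S' => t (S, S', l)) S S')) =
      fun S S' => pullTop (PicF.XTmap f a) (secN B x S S') := by
    funext S S'
    rw [← hΦ]
    exact iso_inv_app Φ _
  rw [h1] at hq'
  exact ⟨hq'.pluS, fun y => by
    obtain ⟨U, i, j, hy, -, hg⟩ := hq'.gen y
    exact ⟨U, i, j, hy, hg⟩⟩

/-- the model over a test scheme, from a model over `X_M` -/
theorem exists_model_of_univ (hdim : topologicalKrullDim X = 1) {L : X.Modules} (hL : PicF.IsInvertible L)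
    (B : BD f L) [Infinite B.I] (hB : Gen B.w) {m : ℕ} (hm : 1 ≤ m)
    (hg : letI : X.Over (Spec (CommRingCat.of k)) := ⟨f⟩; Curv2.genus k X ≤ m)
    (hdeg : letI : X.Over (Spec (CommRingCat.of k)) := ⟨f⟩
      Curv2.deg k X L 1 = 2 * (m : ℤ) - 1 + 2 * (Curv2.genus k X : ℤ))
    {C : Finset (Fin m → B.I)}
    {M : Over (Spec (CommRingCat.of k))} {N : M.left.Modules} (hN : PicF.IsInvertible N)
    (x : C × C × Fin B.d → Γ(N, ⊤)) (ξ : (PicF.XT f M).Modules) (v : C → Γ(ξ, ⊤)) (β : Wdg ξ (LL f L M N))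
    (hv : IsModel v (secN B x) β)
    (T : Over (Spec (CommRingCat.of k))) [IsAffine T.left] (a : T ⟶ M)
    (t : C × C × Fin B.d → Γ(T.left, ⊤)) (F : J m → C) (hc : Coord x a t) (h : EqF B.w t F)
    (hu : IsUnit (hF B.w t F)) :
    ∃ (v : J m → Γ(pb f a ξ, ⊤)) (β : Wdg (pb f a ξ) (LT f L T)), IsModel v (B.sec T (rs t F)) β := by
  obtain ⟨Φ, hΦ⟩ := exists_iso_coord hL B hN x a t hc
  obtain ⟨E, u, q, β₁, hu', hq⟩ := exists_local_model hdim hL B hB hm hg hdeg T t F h hu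
  obtain ⟨β₂, h₂⟩ := hv.pullback (PicF.XTmap f a)
  obtain ⟨β₃, h₃⟩ := h₂.of_iso (Iso.refl _) Φ
  have h1 : (fun S S' => Φ.hom.app ⊤ (pullTop (PicF.XTmap f a) (secN B x S S'))) =
      B.sec T (fun l S S' => t (S, S', l)) := by
    funext S S'
    exact hΦ S S'
  rw [h1] at h₃
  obtain ⟨φ, -⟩ := hq.exists_iso h₃
  obtain ⟨β₄, h₄⟩ := hu'.of_iso φ (Iso.refl _)
  exact ⟨_, β₄, h₄⟩

end Main

end Groth.Agent.VBCurve.K678.MukF3

namespace K704.Muk

open Groth.Agent.VBCurve.K678.MukF3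

section Main
variable {k : Type u} [Field k] [IsAlgClosed k] [CharZero k] {X : Scheme.{u}} {f : X ⟶ Spec (CommRingCat.of k)}
  [IsIntegral X] [IsProper f] [Smooth f]

/-! ### NODE F3 : the universal bundle -/

theorem exists_univ_bundle (hdim : topologicalKrullDim X = 1) {L : X.Modules} (hL : PicF.IsInvertible L)
    (B : BD f L) [Infinite B.I] (hB : Gen B.w) {m : ℕ} (hm : 1 ≤ m)
    (hg : letI : X.Over (Spec (CommRingCat.of k)) := ⟨f⟩; Curv2.genus k X ≤ m)
    (hdeg : letI : X.Over (Spec (CommRingCat.of k)) := ⟨f⟩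
      Curv2.deg k X L 1 = 2 * (m : ℤ) - 1 + 2 * (Curv2.genus k X : ℤ))
    (C : Finset (Fin m → B.I))
    (M : Over (Spec (CommRingCat.of k))) (N : M.left.Modules) (hN : PicF.IsInvertible N)
    (x : C × C × Fin B.d → Γ(N, ⊤))
    (hcov : ∀ y : M.left, ∃ W : M.left.Opens, y ∈ W ∧ IsAffineOpen W ∧
      ∃ (t : C × C × Fin B.d → Γ((Over.mk (W.ι ≫ M.hom) : Over (Spec (CommRingCat.of k))).left, ⊤)) (F : J m → C),
        Coord x (Groth.Agent.Picfga.OverRep.res M W) t ∧ EqF B.w t F ∧ IsUnit (hF B.w t F)) :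
    ∃ ξ : (PicF.XT f M).Modules, (ModFun.SU f 2 L).ok M ξ ∧
      ∀ (T : Over (Spec (CommRingCat.of k))) [IsAffine T.left] (a : T ⟶ M)
        (t : C × C × Fin B.d → Γ(T.left, ⊤)) (F : J m → C), Coord x a t → EqF B.w t F → IsUnit (hF B.w t F) →
        ∃ (v : J m → Γ(pb f a ξ, ⊤)) (β : Wdg (pb f a ξ) (LT f L T)),
          IsModel v (B.sec T (rs t F)) β := by
  have hcov' : ∀ y : PicF.XT f M, ∃ (Y' : Scheme.{u}) (g : Y' ⟶ PicF.XT f M) (_ : IsOpenImmersion g),
      y ∈ g.opensRange ∧ PluS (fun S S' => pullTop g (secN B x S S')) ∧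
        GenS (fun S S' => pullTop g (secN B x S S')) := by
    intro y
    obtain ⟨W, hyW, hW, t, F, hc, h, hu⟩ := hcov (PicF.XTproj f M y)
    have hgi : IsOpenImmersion (PicF.XTmap f (Groth.Agent.Picfga.OverRep.res M W)) :=
      Groth.Agent.Picfga.RigSheaf.isOpenImmersion_XTmap _
    refine ⟨_, PicF.XTmap f (Groth.Agent.Picfga.OverRep.res M W), hgi, ?_, ?_⟩
    · rw [Groth.Agent.Picfga.RigSheaf.mem_opensRange_XTmap, Groth.Agent.Picfga.RigSheaf.opensRange_res]
      exact hyW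
    · have : IsAffine (Over.mk (W.ι ≫ M.hom) : Over (Spec (CommRingCat.of k))).left := hW
      exact exists_model_pb hdim hL B hB hm hg hdeg hN x _ _ t F hc h hu
  have hLL := isInvertible_LL (f := f) hL M hN
  have hp : PluS (secN B x) := pluS_of_cover _ fun y => by
    obtain ⟨Y', g, hg, hy, hp, -⟩ := hcov' y
    exact ⟨Y', g, hg, hy, hp⟩
  have hq : GenS (secN B x) := genS_of_cover _ fun y => by
    obtain ⟨Y', g, hg, hy, -, hp⟩ := hcov' y
    exact ⟨Y', g, hg, hy, hp⟩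
  obtain ⟨ξ, v, β, hξ⟩ := exists_model hLL (secN B x) hp hq
  have hlast : ∀ (T : Over (Spec (CommRingCat.of k))) [IsAffine T.left] (a : T ⟶ M)
        (t : C × C × Fin B.d → Γ(T.left, ⊤)) (F : J m → C), Coord x a t → EqF B.w t F → IsUnit (hF B.w t F) →
        ∃ (v : J m → Γ(pb f a ξ, ⊤)) (β : Wdg (pb f a ξ) (LT f L T)),
          IsModel v (B.sec T (rs t F)) β := fun T _ a t F hc h hu =>
    exists_model_of_univ hdim hL B hB hm hg hdeg hN x ξ v β hξ T a t F hc h hu
  refine ⟨ξ, ⟨⟨⟨trivial, hξ.isFinLocFreeOfRank⟩, LL f L M N, hξ.isExtPow, N, hN, ⟨Iso.refl _⟩⟩, ?_⟩, hlast⟩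
  intro Ω _ _ t
  obtain ⟨W, hyW, hW, c, F, hc, h, hu⟩ := hcov (t (IsLocalRing.closedPoint Ω))
  have hr : Set.range t ⊆ Set.range W.ι := by
    rintro _ ⟨z, rfl⟩
    rw [Scheme.Opens.range_ι]
    have : z = IsLocalRing.closedPoint Ω := Subsingleton.elim _ _
    rw [this]
    exact hyW
  have hfac : (IsOpenImmersion.lift W.ι t hr) ≫ W.ι = t := IsOpenImmersion.lift_fac _ _ _
  let T : Over (Spec (CommRingCat.of k)) := Over.mk (t ≫ M.hom)
  let a : T ⟶ M := Over.homMk t rfl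
  let b : T ⟶ Over.mk (W.ι ≫ M.hom) := Over.homMk (IsOpenImmersion.lift W.ι t hr) (by
    change _ ≫ W.ι ≫ M.hom = t ≫ M.hom
    rw [← Category.assoc, hfac])
  have hba : b ≫ Groth.Agent.Picfga.OverRep.res M W = a := by
    ext1
    exact hfac
  have hT : IsAffine T.left := inferInstanceAs (IsAffine (Spec (CommRingCat.of Ω)))
  have hc' := hc.comp b
  rw [hba] at hc'
  have hφ : ∀ c : k, b.left.appTop.hom (algebraMap k _ c) = algebraMap k _ c := fun c => algebraMap_appTop b c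
  obtain ⟨v', β', hm'⟩ := hlast T a _ F hc' (eqF_map b.left.appTop.hom hφ h) (by
    rw [show (fun i => b.left.appTop (c i)) = fun i => b.left.appTop.hom (c i) from rfl, hF_map _ hφ]
    exact hu.map _)
  have hst := (exists_bundle hdim hL B hB hm hg hdeg T _ (eqF_map b.left.appTop.hom hφ h).sys (fun j => F j) (by
    have := hu.map b.left.appTop.hom
    rw [← hF_map _ hφ] at this
    exact this)).2 (pb f a ξ) v' β' hm'
  exact stable_of_id f 2 Ω (t ≫ M.hom) (pb f a ξ) hst.2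

end Main

end K704.Muk
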